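import Mathlib.Algebra.Homology.DerivedCategory.KInjective
import Mathlib.Algebra.Homology.HomotopyCategory.KInjective
import Mathlib.Algebra.Homology.HomotopyCategory.MappingCone

/-!
# Two out of three for bounded complexes of injectives
-/

universe w v u

open CategoryTheory Category Limits Pretriangulated DerivedCategory CochainComplex

namespace InjConeLib

variable {A : Type u} [Category.{v} A] [Abelian A] [HasDerivedCategory.{w} A]

/-- Maps into a bounded below complex of injectives lift to complexes. -/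
theorem exists_lift (K L : CochainComplex A ℤ) [L.IsKInjective] (f : Q.obj K ⟶ Q.obj L) :
    ∃ g : K ⟶ L, Q.map g = f := by
  obtain ⟨φ, hφ⟩ := (IsKInjective.Qh_map_bijective ((HomotopyCategory.quotient _ _).obj K) L).2
    ((quotientCompQhIso A).hom.app K ≫ f ≫ (quotientCompQhIso A).inv.app L)
  obtain ⟨g, rfl⟩ := (HomotopyCategory.quotient _ _).map_surjective φ
  refine ⟨g, ?_⟩
  rw [← cancel_epi ((quotientCompQhIso A).hom.app K), ← cancel_mono ((quotientCompQhIso A).inv.app L), assoc, assoc, ← hφ,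
    quotientCompQhIso_inv_naturality]
  simp

theorem main (T : Triangle (DerivedCategory A)) (hT : T ∈ distTriang (DerivedCategory A))
    (h₁ : ∃ (I : CochainComplex A ℤ) (b c : ℤ), I.IsStrictlyGE b ∧ I.IsStrictlyLE c ∧
        (∀ n : ℤ, Injective (I.X n)) ∧ Nonempty (T.obj₁ ≅ Q.obj I))
    (h₃ : ∃ (I : CochainComplex A ℤ) (b c : ℤ), I.IsStrictlyGE b ∧ I.IsStrictlyLE c ∧
        (∀ n : ℤ, Injective (I.X n)) ∧ Nonempty (T.obj₃ ≅ Q.obj I)) :
    ∃ (I : CochainComplex A ℤ) (b c : ℤ), I.IsStrictlyGE b ∧ I.IsStrictlyLE c ∧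
        (∀ n : ℤ, Injective (I.X n)) ∧ Nonempty (T.obj₂ ≅ Q.obj I) := by
  obtain ⟨I₁, b₁, c₁, _, _, hI₁, ⟨e₁⟩⟩ := h₁
  obtain ⟨I₃, b₃, c₃, _, _, hI₃, ⟨e₃⟩⟩ := h₃
  let K : CochainComplex A ℤ := I₃⟦(-1 : ℤ)⟧
  haveI : ∀ n, Injective (I₁.X n) := hI₁
  haveI : I₁.IsKInjective := isKInjective_of_injective I₁ b₁
  let T' := T.invRotate
  have hT' : T' ∈ distTriang _ := inv_rot_of_distTriang _ hT
  let eK : T'.obj₁ ≅ Q.obj K :=
    (CategoryTheory.shiftFunctor (DerivedCategory A) (-1 : ℤ)).mapIso e₃ ≪≫ ((Q.commShiftIso (-1 : ℤ)).app I₃).symm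
  obtain ⟨g, hg⟩ := exists_lift K I₁ (eK.inv ≫ T'.mor₁ ≫ e₁.hom)
  have hK : ∀ n, K.X n = I₃.X (n + -1) := fun n => rfl
  have hinj : ∀ n, Injective ((mappingCone g).X n) := by
    intro n
    haveI : Injective (K.X (n + 1)) := hI₃ _
    exact Injective.of_iso (HomologicalComplex.homotopyCofiber.XIsoBiprod g n (n + 1) rfl).symm inferInstance
  refine ⟨mappingCone g, min b₁ b₃, max c₁ c₃, ?_, ?_, hinj, ⟨Triangle.π₃.mapIso (isoTriangleOfIso₁₂ T' _ hT'
    (mappingCone_triangle_distinguished g) eK e₁ ?_)⟩⟩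
  · rw [isStrictlyGE_iff]
    intro i hi
    rw [mappingCone.isZero_X_iff]
    exact ⟨I₃.isZero_of_isStrictlyGE b₃ _ (show i + 1 + (-1 : ℤ) < b₃ by omega), I₁.isZero_of_isStrictlyGE b₁ _ (by omega)⟩
  · rw [isStrictlyLE_iff]
    intro i hi
    rw [mappingCone.isZero_X_iff]
    exact ⟨I₃.isZero_of_isStrictlyLE c₃ _ (show c₃ < i + 1 + (-1 : ℤ) by omega), I₁.isZero_of_isStrictlyLE c₁ _ (by omega)⟩
  · show T'.mor₁ ≫ e₁.hom = eK.hom ≫ Q.map g
    rw [hg, Iso.hom_inv_id_assoc]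

end InjConeLib
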